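import Mathlib

/-! # Lifting finite projective modules along nil thickenings; limits -/

universe u v

open Matrix

namespace GrothLib.LimProj4

theorem exists_compatible : ∀ (n : ℕ) (An : ℕ → Type u) [∀ k, CommRing (An k)] (t : ∀ k, An (k + 1) →+* An k),
    (∀ k, Function.Surjective (t k)) → ∀ y : An n, ∃ x : ∀ k, An k, (∀ k, t k (x (k + 1)) = x k) ∧ x n = y
  | 0, An, _, t, ht, y => ⟨fun k => Nat.rec (motive := An) y (fun j z => (ht j z).choose) k,
      fun k => (ht k _).choose_spec, rfl⟩
  | n + 1, An, _, t, ht, y => by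
    obtain ⟨x, hx, hy⟩ := exists_compatible n (fun k => An (k + 1)) (fun k => t (k + 1)) (fun k => ht (k + 1)) y
    refine ⟨fun k => match k with | 0 => t 0 (x 0) | j + 1 => x j, fun k => ?_, hy⟩
    cases k with
    | zero => rfl
    | succ j => exact hx j

variable {R : Type u} [CommRing R] {r : ℕ}

/-- A matrix whose entries lie in a nil ideal is nilpotent. -/
theorem isNilpotent_of_entries (N : Matrix (Fin r) (Fin r) R) (h : ∀ i j, IsNilpotent (N i j)) :
    IsNilpotent N := by
  let I := Ideal.span (Set.range fun p : Fin r × Fin r => N p.1 p.2)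
  obtain ⟨m, hm⟩ := (Ideal.FG.isNilpotent_iff_le_nilradical (I := I)
    (Submodule.fg_span (Set.finite_range _))).2 (Ideal.span_le.2 (by rintro _ ⟨p, rfl⟩; exact h p.1 p.2))
  refine ⟨m, ?_⟩
  have : ∀ k i j, (N ^ k) i j ∈ I ^ k := by
    intro k
    induction k with
    | zero => intro i j; simp
    | succ k ih =>
      intro i j
      rw [pow_succ N, pow_succ I, Matrix.mul_apply]
      exact Ideal.sum_mem _ fun l _ => Ideal.mul_mem_mul (ih i l) (Ideal.subset_span ⟨(l, j), rfl⟩)
  ext i j
  simpa [hm] using this m i j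

/-- The data of a split presentation. -/
def Good {M : Type v} [AddCommGroup M] [Module R M] (E : Matrix (Fin r) (Fin r) R) (x : Fin r → M) : Prop :=
  IsIdempotentElem E ∧ Function.Surjective (Fintype.linearCombination R x) ∧
    ∀ v, Fintype.linearCombination R x v = Fintype.linearCombination R x (E *ᵥ v) ∧
      (Fintype.linearCombination R x v = 0 → E *ᵥ v = 0)

theorem exists_good_of_projective (M : Type v) [AddCommGroup M] [Module R M] [Module.Finite R M]
    [Module.Projective R M] :
    ∃ (r : ℕ) (E : Matrix (Fin r) (Fin r) R) (x : Fin r → M), Good E x := by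
  obtain ⟨n, f, g, hf, hg, hfg⟩ := Module.Finite.exists_comp_eq_id_of_projective R M
  refine ⟨n, LinearMap.toMatrix' (g ∘ₗ f), fun i => f (Pi.single i 1), ?_⟩
  have hlc : Fintype.linearCombination R (fun i => f (Pi.single i 1)) = f := by
    refine LinearMap.pi_ext' fun i => LinearMap.ext_ring ?_
    simp
  have hfg' : ∀ m, f (g m) = m := fun m => LinearMap.congr_fun hfg m
  refine ⟨?_, by rw [hlc]; exact hf, fun v => ?_⟩
  · show LinearMap.toMatrix' (g ∘ₗ f) * LinearMap.toMatrix' (g ∘ₗ f) = _
    rw [← LinearMap.toMatrix'_comp]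
    congr 1
    ext v i
    simp [hfg']
  · rw [hlc, LinearMap.toMatrix'_mulVec]
    refine ⟨(hfg' (f v)).symm, fun h => ?_⟩
    show g (f v) = 0
    rw [h, map_zero]

/-- Lift a split presentation along a nil thickening. -/
theorem exists_good_lift {S : Type u} [CommRing S] (t : R →+* S) (ht : Function.Surjective t)
    (hnil : ∀ x, t x = 0 → IsNilpotent x)
    {M : Type v} [AddCommGroup M] [Module R M] [Module.Finite R M] [Module.Flat R M]
    {N : Type v} [AddCommGroup N] [Module S N] (u : M →ₛₗ[t] N) (hu : Function.Surjective u)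
    (hker : LinearMap.ker u = RingHom.ker t • (⊤ : Submodule R M))
    {E₀ : Matrix (Fin r) (Fin r) S} {y : Fin r → N} (h : Good E₀ y) :
    ∃ (E : Matrix (Fin r) (Fin r) R) (x : Fin r → M), Good E x ∧ E.map t = E₀ ∧ ∀ i, u (x i) = y i := by
  obtain ⟨hE₀, hsurj₀, hv₀⟩ := h
  choose x₁ hx₁ using fun i => hu (y i)
  have hfin : ∀ z ∈ RingHom.ker (RingHom.mapMatrix (m := Fin r) t), IsNilpotent z := fun z hz =>
    isNilpotent_of_entries z fun i j => hnil _ (congrFun (congrFun hz i) j)
  obtain ⟨E, hE, hEmap⟩ := exists_isIdempotentElem_eq_of_ker_isNilpotent (RingHom.mapMatrix (m := Fin r) t) hfin E₀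
    ⟨Matrix.of fun i j => (ht (E₀ i j)).choose, by ext i j; exact (ht (E₀ i j)).choose_spec⟩ hE₀
  have hEmap' : E.map t = E₀ := hEmap
  let x : Fin r → M := fun i => Fintype.linearCombination R x₁ (E *ᵥ Pi.single i 1)
  let p := Fintype.linearCombination R x
  have hp : ∀ v, p v = Fintype.linearCombination R x₁ (E *ᵥ v) := by
    have : p = Fintype.linearCombination R x₁ ∘ₗ Matrix.mulVecLin E := by
      refine LinearMap.pi_ext' fun i => LinearMap.ext_ring ?_
      simp [p, x]
    exact LinearMap.congr_fun this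
  have hu₁ : ∀ v, u (Fintype.linearCombination R x₁ v) = Fintype.linearCombination S y (t ∘ v) := fun v => by
    simp [Fintype.linearCombination_apply, hx₁]
  have htE : ∀ v, t ∘ (E *ᵥ v) = E₀ *ᵥ (t ∘ v) := fun v => by
    funext i
    rw [← hEmap']
    exact RingHom.map_mulVec t E v i
  have hup : ∀ v, u (p v) = Fintype.linearCombination S y (t ∘ v) := fun v => by
    rw [hp, hu₁, htE, ← (hv₀ _).1]
  have hpE : ∀ v, p v = p (E *ᵥ v) := fun v => by
    rw [hp, hp, Matrix.mulVec_mulVec, hE.eq]
  have hjac : RingHom.ker t ≤ (⊥ : Ideal R).jacobson := fun a ha =>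
    Ideal.mem_sInf.2 fun {J} hJ => hJ.2.isPrime.mem_of_pow_mem _ ((hnil a ha).choose_spec ▸ J.zero_mem)
  have hpsurj : Function.Surjective p := by
    rw [← LinearMap.range_eq_top]
    refine top_le_iff.1 (Submodule.le_of_le_smul_of_le_jacobson_bot (I := RingHom.ker t) Module.Finite.fg_top
      hjac fun m _ => ?_)
    obtain ⟨w, hw⟩ := hsurj₀ (u m)
    choose v hv using fun i => ht (w i)
    have : m - p v ∈ LinearMap.ker u := by
      rw [LinearMap.mem_ker, map_sub, hup, ← hw, sub_eq_zero]
      exact congrArg _ (funext fun i => (hv i).symm)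
    rw [hker] at this
    simpa using Submodule.add_mem_sup (LinearMap.mem_range_self p v) this
  refine ⟨E, x, ⟨hE, hpsurj, fun v => ⟨hpE v, fun hv => ?_⟩⟩, hEmap', fun i => ?_⟩
  · let k := E *ᵥ v
    let f : R →ₗ[R] (Fin r → R) := LinearMap.toSpanSingleton R _ k
    have hpk : p k = 0 := (hpE v).symm.trans hv
    obtain ⟨κ, a, w, haw, hak⟩ := Module.Flat.exists_factorization_of_comp_eq_zero_of_free
      (f := f) (x := p) (LinearMap.ext_ring (by simpa [f] using hpk))
    obtain ⟨w', hw'⟩ := Module.projective_lifting_property p w hpsurj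
    let ψ : (Fin r → R) →ₗ[R] (Fin r → R) := Matrix.mulVecLin E ∘ₗ (LinearMap.id - w' ∘ₗ a)
    have hψk : ψ k = k := by
      have h1 : a k = 0 := by simpa [f] using LinearMap.congr_fun hak 1
      simp [ψ, h1, k, Matrix.mulVec_mulVec, hE.eq]
    have hψ : IsNilpotent (LinearMap.toMatrix' ψ) := isNilpotent_of_entries _ fun i j => hnil _ (by
      have h1 : p ((LinearMap.id - w' ∘ₗ a : (Fin r → R) →ₗ[R] (Fin r → R)) (Pi.single j 1)) = 0 := by
        simp only [LinearMap.sub_apply, LinearMap.id_apply, map_sub, LinearMap.comp_apply]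
        rw [sub_eq_zero]
        exact (LinearMap.congr_fun haw _).trans (LinearMap.congr_fun hw' _).symm
      have h2 := congrArg u h1
      rw [hup, map_zero] at h2
      have h3 := congrFun ((hv₀ _).2 h2) i
      rw [← htE] at h3
      simpa [ψ, LinearMap.toMatrix'_apply, Pi.single_apply] using h3)
    obtain ⟨m, hm⟩ := hψ
    have hiter : ∀ m, (LinearMap.toMatrix' ψ ^ m) *ᵥ k = k := by
      intro m
      induction m with
      | zero => simp
      | succ m ih => rw [pow_succ, ← Matrix.mulVec_mulVec, LinearMap.toMatrix'_mulVec, hψk, ih]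
    show k = 0
    rw [← hiter m, hm, Matrix.zero_mulVec]
  · have h1 := hup (Pi.single i 1)
    have h2 : t ∘ (Pi.single i (1 : R)) = Pi.single i (1 : S) := by
      funext j
      simp only [Function.comp_apply, Pi.single_apply]
      split <;> simp
    rw [h2] at h1
    simpa [p] using h1

end GrothLib.LimProj4
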